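import Cfsg.Agent.Lib.XS3.Exc
import Cfsg.Agent.Lib.WCor.In
import Cfsg.Agent.Lib.KGroup.Basic
import Cfsg.Agent.Lib.Leech.Spor
import Cfsg.Agent.Lib.J1.Iso
import Cfsg.Agent.Lib.J2.Iso
import Cfsg.Agent.Lib.Classical.SmallIso
import Cfsg.Agent.S1625
import Cfsg.Agent.S1627
import Cfsg.Agent.S1694
import Cfsg.Agent.S1695
import Cfsg.Agent.S1696
import Cfsg.Agent.S1697
import Cfsg.Agent.S1698
import Cfsg.Agent.S1699
import Cfsg.Agent.S1700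
import Cfsg.Agent.S1701
import Cfsg.Agent.S1702
import Cfsg.Agent.S1703

/-!
# Known simple groups with an extraspecial Sylow subgroup of order `p³`, granted the orders of `B` and `M`
-/

set_option autoImplicit false

namespace CfsgLib.XS3

open Cfsg Cfsg.Agent

theorem Hyp.mem' {p : ℕ} [Fact p.Prime] {G X : Type*} [Group G] [Group X] (h : Hyp p G) (h2 : p ≠ 2) {N : ℕ}
    (hN : Nat.card X = N) (e : Nonempty (G ≃* X)) (l : List ℕ)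
    (H : N ∣ primes.prod ^ 46 ∧ ∀ r ∈ primes, r ≠ 2 → r ^ 3 ∣ N → ¬ r ^ 4 ∣ N → r ∈ l := by decide +kernel) : p ∈ l :=
  h.mem h2 ((Nat.card_congr e.some.toEquiv).trans hN) l H

theorem card_tits {G : Type*} [Group G] (e : Lie.IsoTits G) : Nat.card G = 17971200 := by
  obtain ⟨e⟩ := e
  rw [Nat.card_congr e.toEquiv, S1074.result.2.2.2]; norm_num

theorem spor (hB : IsB Spor.BabyMonster) (hM : IsM Spor.Monster) {p : ℕ} [Fact p.Prime] {G : Type*} [Group G]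
    (h : Hyp p G) (h2 : p ≠ 2) (hG : IsSporadicGroup G) :
    (p = 3 ∧ (Spor.IsoM12 G ∨ Spor.IsoM24 G ∨ Spor.IsoJ2 G ∨ Spor.IsoJ4 G ∨ Spor.IsoHe G ∨ Spor.IsoRu G)) ∨
    (p = 5 ∧ (Spor.IsoHS G ∨ Spor.IsoCo3 G ∨ Spor.IsoCo2 G ∨ Spor.IsoMcL G ∨ Spor.IsoRu G ∨ Spor.IsoTh G)) ∨
    (p = 7 ∧ (Spor.IsoHe G ∨ Spor.IsoON G ∨ Spor.IsoFi24' G)) ∨ (p = 11 ∧ Spor.IsoJ4 G) ∨ (p = 13 ∧ Spor.IsoM G) := by
  rcases hG with e | e | e | e | e | e | e | ⟨F, _, _, ω, a, b, e⟩ | e | e | e | e | e | e | e | e | e | e | e | e | e |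
    e | e | e | e | e
  · simpa using h.mem' h2 Mathieu.card_M11 e []
  · have := h.mem' h2 Mathieu.card_M12 e [3]; simp_all
  · simpa using h.mem' h2 Mathieu.card_M22 e []
  · simpa using h.mem' h2 Mathieu.card_M23 e []
  · have := h.mem' h2 Mathieu.card_M24 e [3]; simp_all
  · simpa using h.mem' h2 J1.card_J1 e []
  · have := h.mem' h2 J2.card_J2 e [3]; simp_all
  · simpa using h.mem' h2 (S1625.result F a ω b).2.2.1 e []
  · have := h.mem' h2 S1703.result.2 e [3, 11]; simp only [List.mem_cons, List.not_mem_nil] at this; tauto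
  · simpa using h.mem' h2 Leech.spor_Co1.2 e []
  · have := h.mem' h2 Leech.spor_Co2.2 e [5]; simp_all
  · have := h.mem' h2 Leech.spor_Co3.2 e [5]; simp_all
  · have := h.mem' h2 Leech.spor_McL.2 e [5]; simp_all
  · have := h.mem' h2 Leech.spor_HS.2 e [5]; simp_all
  · simpa using h.mem' h2 S1694.result.2 e []
  · have := h.mem' h2 S1695.result.2 e [3, 7]; simp only [List.mem_cons, List.not_mem_nil] at this; tauto
  · have := h.mem' h2 S1627.result.2.1 e [3, 5]; simp only [List.mem_cons, List.not_mem_nil] at this; tauto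
  · have := h.mem' h2 S1699.result.2 e [7]; simp_all
  · simpa using h.mem' h2 S1702.result.2 e []
  · simpa using h.mem' h2 S1696.result.2 e []
  · simpa using h.mem' h2 S1697.result.2 e []
  · have := h.mem' h2 S1698.result.2 e [7]; simp_all
  · simpa using h.mem' h2 S1701.result.2 e []
  · have := h.mem' h2 S1700.result.2 e [5]; simp_all
  · simpa using h.mem' h2 hB.2 e []
  · have := h.mem' h2 hM.2 e [13]; simp_all

theorem main (hB : IsB Spor.BabyMonster) (hM : IsM Spor.Monster) {G : Type*} [Group G] [Finite G] [IsSimpleGroup G] (hG : ¬ IsMulCommutative G) (hK : Cfsg.IsCompositionKGroup G)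
    {p : ℕ} [Fact p.Prime] (S : Sylow p G) (hS : Cfsg.IsExtraspecial p ↥(S : Subgroup G)) (hS3 : Nat.card (S : Subgroup G) = p ^ 3) :
    (Nonempty (G ≃* Matrix.ProjectiveSpecialLinearGroup (Fin 3) (ZMod p)) ∨
       (p ≠ 2 ∧ ∃ (F : Type) (_ : Field F) (_ : Fintype F), Fintype.card F = p ^ 2 ∧ Nonempty (G ≃* Cfsg.PSU 3 F p))) ∨
    (p = 2 ∧ (Nonempty (G ≃* ↥(alternatingGroup (Fin 7))) ∨
       ∃ (F : Type) (_ : Field F) (_ : Fintype F), (Fintype.card F % 16 = 7 ∨ Fintype.card F % 16 = 9) ∧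
         Nonempty (G ≃* Matrix.ProjectiveSpecialLinearGroup (Fin 2) F))) ∨
    (p = 3 ∧ ((∃ (F : Type) (_ : Field F) (_ : Fintype F), Fintype.card F = 9 ∧ Nonempty (G ≃* Cfsg.PSU 3 F 3)) ∨
       ∃ (F : Type) (_ : Field F) (_ : Fintype F) (r a : ℕ), r.Prime ∧ (r % 9 = 2 ∨ r % 9 = 4 ∨ r % 9 = 5 ∨ r % 9 = 7) ∧
         1 ≤ a ∧ ¬ 3 ∣ a ∧ (r = 2 → 1 < a) ∧ Fintype.card F = r ^ a ∧ Nonempty (G ≃* ↥(Cfsg.Lie.chevG2.group F)))) ∨
    (p = 3 ∧ (Cfsg.Lie.IsoTits G ∨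
       ∃ (K : Type) (_ : Field K) (_ : Fintype K) (m : ℕ), 1 ≤ m ∧ ¬ 3 ∣ (2 * m + 1) ∧ Fintype.card K = 2 ^ (2 * m + 1) ∧
         Nonempty (G ≃* ↥(Cfsg.Lie.twistedF4 K (2 ^ m))))) ∨
    (p = 3 ∧ (Cfsg.Spor.IsoM12 G ∨ Cfsg.Spor.IsoM24 G ∨ Cfsg.Spor.IsoJ2 G ∨ Cfsg.Spor.IsoJ4 G ∨ Cfsg.Spor.IsoHe G ∨ Cfsg.Spor.IsoRu G)) ∨
    (p = 5 ∧ (Cfsg.Spor.IsoHS G ∨ Cfsg.Spor.IsoCo3 G ∨ Cfsg.Spor.IsoCo2 G ∨ Cfsg.Spor.IsoMcL G ∨ Cfsg.Spor.IsoRu G ∨ Cfsg.Spor.IsoTh G)) ∨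
    (p = 7 ∧ (Cfsg.Spor.IsoHe G ∨ Cfsg.Spor.IsoON G ∨ Cfsg.Spor.IsoFi24' G)) ∨
    (p = 11 ∧ Cfsg.Spor.IsoJ4 G) ∨
    (p = 13 ∧ Cfsg.Spor.IsoM G) := by
  have hc : ¬ IsMulCommutative (S : Subgroup G) := fun hc => by
    have h1 : commutator (S : Subgroup G) = ⊥ := commutator_eq_bot _
    have h2 := hS.2
    rw [← hS.1.2.2, h1, Subgroup.card_bot] at h2
    exact (Fact.out : p.Prime).one_lt.ne h2
  by_cases h2 : p = 2
  · subst h2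
    obtain ⟨r, s, hD⟩ := WCor.dih_of_eight hG S hS3 hc
    refine .inr (.inl ⟨rfl, ?_⟩)
    rcases WCor.gws G hG ⟨S, 4, r, s, by norm_num, hD⟩ with ⟨F, _, _, h1, -, ⟨e⟩⟩ | h
    · refine .inr ⟨F, _, _, WCor.mod_sixteen h1 (Gold.Cor.card_psl_odd h1) ?_ ?_, ⟨e⟩⟩
      · rw [← Nat.card_congr e.toEquiv]; exact hS3.symm.dvd.trans (Subgroup.card_subgroup_dvd_card _)
      · rw [← Nat.card_congr e.toEquiv]
        intro h
        have := S.pow_dvd_card_of_pow_dvd_card (n := 4) h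
        rw [hS3] at this
        omega
    · exact .inl h
  have h : Hyp p G := ⟨hS3.symm.dvd.trans (Subgroup.card_subgroup_dvd_card _), fun h => by
    have := S.pow_dvd_card_of_pow_dvd_card h
    rw [hS3, Nat.pow_dvd_pow_iff_le_right (Fact.out : p.Prime).one_lt] at this
    omega, fun T hT => hc ⟨⟨fun a b => (Sylow.equiv S T).injective (by rw [map_mul, map_mul, hT.1.1])⟩⟩⟩
  have e0 : (⊤ : Subgroup G) ⧸ (⊥ : Subgroup (⊤ : Subgroup G)) ≃* G := QuotientGroup.quotientBot.trans Subgroup.topEquiv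
  have hk := KGroup.isKnownSimple_of_mulEquiv e0 (hK ⊤ Subgroup.IsSubnormal.top ⊥ e0.isSimpleGroup
    (mt (KGroup.isMulCommutative_of_mulEquiv e0) hG))
  rcases hk with hk | ⟨n, hn, ⟨e⟩⟩ | ⟨F, _, _, n, hn, -, ⟨e⟩⟩ | ⟨F, _, _, n, hn, -, ⟨e⟩⟩ | ⟨F, _, _, n, q, hF, hn, -, ⟨e⟩⟩ |
    ⟨F, _, _, n, hn, ho, ⟨e⟩⟩ | ⟨F, _, _, n, hn, ⟨e⟩⟩ | ⟨F, _, _, n, a, b, hn, hab, ⟨e⟩⟩ | hk | hk
  · have : Fact (Nat.card G).Prime := ⟨hk⟩
    have := isCyclic_of_prime_card (α := G) rfl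
    exact absurd IsCyclic.isMulCommutative hG
  · exact (alt h2 (by omega) (h.of_equiv e)).elim
  · obtain ⟨rfl, hF⟩ := psl h2 hn (h.of_equiv e)
    exact .inl (.inl ⟨e.trans (Classical.pslMapEquiv (FiniteField.ringEquivOfCardEq (hF.trans (ZMod.card p).symm)))⟩)
  · exact (psp h2 hn (h.of_equiv e)).elim
  · obtain ⟨rfl, rfl⟩ := psu h2 hF hn (h.of_equiv e)
    exact .inl (.inr ⟨h2, F, _, _, hF, ⟨e⟩⟩)
  · exact (orthOdd h2 hn ho (h.of_equiv e)).elim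
  · exact (orthPlus h2 hn (h.of_equiv e)).elim
  · exact (orthMinus h2 hn hab (h.of_equiv e)).elim
  · rcases hk with ⟨F, _, _, h3, ⟨e⟩⟩ | ⟨F, _, _, ⟨e⟩⟩ | ⟨F, _, _, ⟨e⟩⟩ | ⟨F, _, _, ⟨e⟩⟩ | ⟨F, _, _, ⟨e⟩⟩ |
      ⟨F, _, _, q, hq, hF, ⟨e⟩⟩ | ⟨F, _, _, q, hq, hF, ⟨e⟩⟩ | ⟨F, _, _, m, hm, hF, ⟨e⟩⟩ | ⟨F, _, _, m, hm, hF, ⟨e⟩⟩ |
      ⟨F, _, _, m, hm, hF, ⟨e⟩⟩ | e
    · obtain ⟨h4, r, a, k1, k2, k3, k4, k5, k6⟩ := g2 h2 h3 (h.of_equiv e)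
      exact .inr (.inr (.inl ⟨h4, .inr ⟨F, _, _, r, a, k1, k2, k3, k4, k5, k6, ⟨e⟩⟩⟩))
    · exact (f4 h2 (h.of_equiv e)).elim
    · exact (e6 h2 (h.of_equiv e)).elim
    · exact (e7 h2 (h.of_equiv e)).elim
    · exact (e8 h2 (h.of_equiv e)).elim
    · exact (te6 h2 hq hF (h.of_equiv e)).elim
    · exact (td4 h2 hq hF (h.of_equiv e)).elim
    · exact (sz h2 hF (h.of_equiv e)).elim
    · exact (tg2 h2 hm hF (h.of_equiv e)).elim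
    · obtain ⟨h4, h5⟩ := tf4 h2 hF (h.of_equiv e)
      exact .inr (.inr (.inr (.inl ⟨h4, .inr ⟨F, _, _, m, hm, h5, hF, ⟨e⟩⟩⟩)))
    · exact .inr (.inr (.inr (.inl ⟨by simpa using h.mem h2 (card_tits e) [3] (by decide +kernel), .inl e⟩)))
  · exact .inr (.inr (.inr (.inr (spor hB hM h h2 hk))))

end CfsgLib.XS3
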